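import Cfsg.Agent.Spor.Sub3
import Cfsg.Agent.Spor.J4P.L.Main
import Cfsg.Agent.Spor.J4M.Main
import Cfsg.Agent.Spor.PX9

set_option autoImplicit false
set_option maxRecDepth 100000

namespace Cfsg.Agent.Spor.J4P

/-- the permutation group -/
noncomputable abbrev P : Subgroup (Equiv.Perm ℕ) := gsub 2 fP
noncomputable abbrev p : ℕ → P := lift P fP

theorem lbP : 244823040 ∣ Nat.card P := by
  rw [P, L.eG]; exact L.lb

theorem bound : Bound 2 0 RL 244823040 := J24.bound

theorem cardP : Nat.card P = 244823040 := Nat.dvd_antisymm (bound _ _ pres) lbP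

instance instFiniteP : Finite P := Nat.finite_of_card_ne_zero (by rw [cardP]; norm_num)

theorem presP : Pres 2 0 RL p := pres.lift

theorem hom : ∃ ψ : P →* J4M.P, Function.Injective ψ ∧ ∀ j < 2, ψ (p j) = J4M.p j :=
  bound.exists_inj (by norm_num) pres J4M.presP lbP
    (by rw [gsub_lift, Subgroup.card_top]; exact J4M.lbP)

theorem simpleP : IsSimpleGroup P :=
  haveI := J4M.simpleP
  simple_of_inj hom.choose_spec.1 hom.choose_spec.2 (gsub_lift 2 _)

theorem eqv : Nonempty (P ≃* M24) :=
  ⟨(MulEquiv.ofBijective hom.choose (hom.choose_spec.1.bijective_of_nat_card_le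
    (by rw [cardP, J4M.cardP]))).trans J4M.eqv⟩

noncomputable def X : MRep J4M.A (ZMod 2) P := J4M.X.comp hom.choose hom.choose_spec.1
theorem gens : X.Gens J4M.TT (atm 2 p) := J4M.gens.comp _ hom.choose_spec.2

end Cfsg.Agent.Spor.J4P
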