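import Cfsg.Agent.Spor.Chk

set_option autoImplicit false
set_option maxRecDepth 100000000
set_option Elab.async false
noncomputable section

namespace Cfsg.Agent.Spor.J4P

def m0_0 : Nat := nat_lit 0xc311
def m0_1 : Nat := nat_lit 0xb00026
def m0_2 : Nat := nat_lit 0xa0a010c
def m0_3 : Nat := nat_lit 0x11110001
def m0_4 : Nat := nat_lit 0x4100544
def m0_5 : Nat := nat_lit 0x1100010
def m0_6 : Nat := nat_lit 0x8020101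
def m0_7 : Nat := nat_lit 0xb00006
def m0_8 : Nat := nat_lit 0xc311
def n0 : Net := Net.cons 16 m0_0 (Net.cons 8 m0_1 (Net.cons 4 m0_2 (Net.cons 2 m0_3 (Net.cons 1 m0_4 (Net.cons 2 m0_5 (Net.cons 4 m0_6 (Net.cons 8 m0_7 (Net.cons 16 m0_8 (Net.nil)))))))))

def m1_0 : Nat := nat_lit 0x9039
def m1_1 : Nat := nat_lit 0x90000a
def m1_2 : Nat := nat_lit 0x30401
def m1_3 : Nat := nat_lit 0x20200
def m1_4 : Nat := nat_lit 0x440101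
def m1_5 : Nat := nat_lit 0x200001
def m1_6 : Nat := nat_lit 0x20001
def m1_7 : Nat := nat_lit 0x80004a
def m1_8 : Nat := nat_lit 0x9039
def n1 : Net := Net.cons 16 m1_0 (Net.cons 8 m1_1 (Net.cons 4 m1_2 (Net.cons 2 m1_3 (Net.cons 1 m1_4 (Net.cons 2 m1_5 (Net.cons 4 m1_6 (Net.cons 8 m1_7 (Net.cons 16 m1_8 (Net.nil)))))))))

def NT : List Net := [n0, n1]
def LT : List Let := [⟨0, false, 0, 0, []⟩, ⟨0, false, 0, 0, []⟩, ⟨1, false, 0, 0, []⟩, ⟨0, true, 0, 0, []⟩, ⟨1, true, 0, 0, []⟩]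
def T : Tab := ⟨NT, LT⟩
def EX : List (List Nat) := [[], [0], [2], [1], [3]]
def RL : List (List Nat) := [[0, 0], [2, 2, 2], [0, 2, 0, 2, 0, 2, 0, 2, 0, 2, 0, 2, 0, 2, 0, 2, 0, 2, 0, 2, 0, 2, 0, 2, 0, 2, 0, 2, 0, 2, 0, 2, 0, 2, 0, 2, 0, 2, 0, 2, 0, 2, 0, 2, 0, 2], [1, 3, 0, 2, 1, 3, 0, 2, 1, 3, 0, 2, 1, 3, 0, 2, 1, 3, 0, 2, 1, 3, 0, 2, 1, 3, 0, 2, 1, 3, 0, 2, 1, 3, 0, 2, 1, 3, 0, 2, 1, 3, 0, 2, 1, 3, 0, 2], [1, 3, 1, 3, 0, 2, 0, 2, 1, 3, 1, 3, 0, 2, 0, 2, 1, 3, 1, 3, 0, 2, 0, 2, 1, 3, 1, 3, 0, 2, 0, 2, 1, 3, 1, 3, 0, 2, 0, 2], [0, 2, 0, 2, 0, 3, 0, 2, 0, 3, 0, 2, 0, 3, 0, 2, 0, 2, 0, 3, 0, 2, 0, 3, 0, 2, 0, 3, 0, 2, 0, 2, 0, 3, 0, 2, 0, 3, 0, 2, 0, 3, 0, 2, 0, 2, 0, 3, 0, 2, 0, 3, 0, 2, 0, 3], [0, 2, 0, 2, 0, 3, 0, 2, 0, 2, 0, 3, 0, 2, 0, 2, 0, 3, 0, 2, 0, 3, 0, 3, 0, 2, 0, 3,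 0, 3, 0, 2, 0, 3, 0, 3]]
def BW : List (List Nat) := []
def L : List Nat := [1, 2, 3, 4]
def gs : List Nat := [1, 2]

end Cfsg.Agent.Spor.J4P
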